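import Cfsg.Agent.Lib.Spor.CoZeroMult.Main

/-!
The base automorphisms generate the automorphism group of the lattice: every prime power in the order divides the
order of a subgroup generated by words in them.
-/

set_option autoImplicit false
set_option maxRecDepth 20000

namespace CfsgLib.Spor.CoOneOut

open Cfsg CfsgLib.Spor.SchurCert CfsgLib.Spor.SchurCert.MatBridge CfsgLib.Spor.Leech CfsgLib.Spor.Leech.Census32

/-- The subgroup generated by the base automorphisms. -/
noncomputable def baseGroup : Subgroup Co0 := Subgroup.closure {g | g ∈ baseElts}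

theorem getD_mem_of_mem {B : Subgroup Co0} {l : List Co0} (h : ∀ g ∈ l, g ∈ B) (k : ℕ) : l.getD k 1 ∈ B := by
  rcases Nat.lt_or_ge k l.length with hk | hk
  · rw [List.getD_eq_getElem _ _ hk]; exact h _ (List.getElem_mem hk)
  · rw [List.getD_eq_default _ _ hk]; exact one_mem _

theorem extendE_mem {B : Subgroup Co0} : ∀ (ws : List (List ℕ)) (acc : List Co0), (∀ g ∈ acc, g ∈ B) →
    ∀ g ∈ extendE ws acc, g ∈ B
  | [], acc, h => h
  | w :: ws, acc, h => extendE_mem ws _ fun g hg => by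
    rcases List.mem_append.1 hg with hg | hg
    · exact h g hg
    · rw [List.mem_singleton.1 hg]
      exact wordElt_mem h w

theorem wordElt_spell (gs : List Co0) (sw : List (List ℕ)) : ∀ v : List ℕ,
    wordElt gs (spell sw v) = wv (fun i => wordElt gs (sw.getD i [])) v
  | [] => by simp [spell, wordElt, wv_nil]
  | a :: v => by
    rw [show spell sw (a :: v) = sw.getD a [] ++ spell sw v by simp [spell], wordElt_append, wordElt_spell gs sw v,
      wv_cons]

theorem pow_dvd_baseGroup (C : Cert) [hp : Fact C.p.Prime] (sw gw : List (List ℕ))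
    (T : List (List ℕ × List (ℕ × List ℕ))) (hid : identMat CoZeroMult.mats 0 C sw gw = true)
    (hsub : subMatOK CoZeroMult.mats CoZeroMult.startCode sw [] T = true)
    (hT : C.p ^ C.m ≤ (T.map fun e => e.2.length).prod) (hshape : C.shapeOK = true) :
    C.p ^ C.m ∣ Nat.card ↥baseGroup := by
  set γ : ℕ → Co0 := fun i => wordElt CoZeroMult.elts (sw.getD i [])
  simp only [identMat, sameM, Bool.and_eq_true, List.all_eq_true] at hid
  obtain ⟨⟨⟨hswl, -⟩, hr⟩, -⟩ := hid
  have hlen : sw.length = C.m := Nat.eq_of_beq_eq_true hswl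
  have hrules : ∀ r, r < C.rules.length → wv γ (C.rules.getD r ([], [])).1 = wv γ (C.rules.getD r ([], [])).2 :=
    fun r hr0 => by
      rw [← wordElt_spell, ← wordElt_spell]
      obtain ⟨-, b⟩ := hr _ (show C.rules.getD r ([], []) ∈ C.rules by
        rw [List.getD_eq_getElem _ _ hr0]; exact List.getElem_mem hr0)
      exact eq_of_same CoZeroMult.isMat_elts (List.all_eq_true.2 b)
  simp only [Cert.shapeOK, Bool.and_eq_true, List.all_eq_true, List.mem_range, Bool.or_eq_true,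
    Bool.not_eq_true', beq_iff_eq] at hshape
  set S := Subgroup.closure (γ '' {i | i < C.m})
  have hup := (segment_bound C hp.out.pos γ ⊥ (fun b hb d => by rw [Subgroup.mem_bot.1 hb, one_mul, mul_one])
    hshape.2 fun r hr0 => ⟨1, one_mem _, by rw [mul_one]; exact hrules r hr0⟩).1
  rw [bot_sup_eq, Subgroup.card_bot, mul_one] at hup
  have hlow := subMat_count CoZeroMult.isMat_elts (x0 := Spor.leechU) (by rw [CoZeroMult.start_code.2]; norm_num) S
    (fun v hv => by
      rw [wordElt_spell]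
      refine list_prod_mem fun g hg => ?_
      obtain ⟨i, hi, rfl⟩ := List.mem_map.1 hg
      exact Subgroup.subset_closure ⟨i, hlen ▸ hv i hi, rfl⟩)
    T [] [] rfl (by simp) (by rw [CoZeroMult.start_code.1]; exact hsub)
  rw [show fixL S [] = S from rfl] at hlow
  rw [← le_antisymm hup (hT.trans hlow)]
  refine Subgroup.card_dvd_of_le ((Subgroup.closure_le _).2 ?_)
  rintro _ ⟨i, -, rfl⟩
  exact wordElt_mem (extendE_mem _ _ fun g hg => Subgroup.subset_closure hg) _

theorem baseGroup_eq_top : baseGroup = ⊤ := by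
  have h2 : 2 ^ 22 ∣ Nat.card ↥baseGroup := by
    haveI : Fact CoZeroMult.P2.cert.p.Prime := ⟨by rw [show CoZeroMult.P2.cert.p = 2 from rfl]; norm_num⟩
    exact pow_dvd_baseGroup CoZeroMult.P2.cert _ _ _ CoZeroMult.P2.ident_ok CoZeroMult.P2.sub_ok
      CoZeroMult.P2.prod_ok CoZeroMult.P2.shape_ok
  have h3 : 3 ^ 9 ∣ Nat.card ↥baseGroup := by
    haveI : Fact CoZeroMult.P3.cert.p.Prime := ⟨by rw [show CoZeroMult.P3.cert.p = 3 from rfl]; norm_num⟩
    exact pow_dvd_baseGroup CoZeroMult.P3.cert _ _ _ CoZeroMult.P3.ident_ok CoZeroMult.P3.sub_ok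
      CoZeroMult.P3.prod_ok CoZeroMult.P3.shape_ok
  have h5 : 5 ^ 4 ∣ Nat.card ↥baseGroup := by
    haveI : Fact CoZeroMult.P5.cert.p.Prime := ⟨by rw [show CoZeroMult.P5.cert.p = 5 from rfl]; norm_num⟩
    exact pow_dvd_baseGroup CoZeroMult.P5.cert _ _ _ CoZeroMult.P5.ident_ok CoZeroMult.P5.sub_ok
      CoZeroMult.P5.prod_ok CoZeroMult.P5.shape_ok
  have h7 : 7 ^ 2 ∣ Nat.card ↥baseGroup := by
    haveI : Fact CoZeroMult.P7.cert.p.Prime := ⟨by rw [show CoZeroMult.P7.cert.p = 7 from rfl]; norm_num⟩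
    exact pow_dvd_baseGroup CoZeroMult.P7.cert _ _ _ CoZeroMult.P7.ident_ok CoZeroMult.P7.sub_ok
      CoZeroMult.P7.prod_ok CoZeroMult.P7.shape_ok
  have h11 : 11 ^ 1 ∣ Nat.card ↥baseGroup := by
    haveI : Fact CoZeroMult.P11.cert.p.Prime := ⟨by rw [show CoZeroMult.P11.cert.p = 11 from rfl]; norm_num⟩
    exact pow_dvd_baseGroup CoZeroMult.P11.cert _ _ _ CoZeroMult.P11.ident_ok CoZeroMult.P11.sub_ok
      CoZeroMult.P11.prod_ok CoZeroMult.P11.shape_ok
  have h13 : 13 ^ 1 ∣ Nat.card ↥baseGroup := by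
    haveI : Fact CoZeroMult.P13.cert.p.Prime := ⟨by rw [show CoZeroMult.P13.cert.p = 13 from rfl]; norm_num⟩
    exact pow_dvd_baseGroup CoZeroMult.P13.cert _ _ _ CoZeroMult.P13.ident_ok CoZeroMult.P13.sub_ok
      CoZeroMult.P13.prod_ok CoZeroMult.P13.shape_ok
  have h23 : 23 ^ 1 ∣ Nat.card ↥baseGroup := by
    haveI : Fact CoZeroMult.P23.cert.p.Prime := ⟨by rw [show CoZeroMult.P23.cert.p = 23 from rfl]; norm_num⟩
    exact pow_dvd_baseGroup CoZeroMult.P23.cert _ _ _ CoZeroMult.P23.ident_ok CoZeroMult.P23.sub_ok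
      CoZeroMult.P23.prod_ok CoZeroMult.P23.shape_ok
  have h : 8315553613086720000 ∣ Nat.card ↥baseGroup := by
    rw [show (8315553613086720000 : ℕ) = 2 ^ 22 * 3 ^ 9 * 5 ^ 4 * 7 ^ 2 * 11 ^ 1 * 13 ^ 1 * 23 ^ 1 by norm_num]
    exact Nat.Coprime.mul_dvd_of_dvd_of_dvd (by norm_num) (Nat.Coprime.mul_dvd_of_dvd_of_dvd (by norm_num)
      (Nat.Coprime.mul_dvd_of_dvd_of_dvd (by norm_num) (Nat.Coprime.mul_dvd_of_dvd_of_dvd (by norm_num)
      (Nat.Coprime.mul_dvd_of_dvd_of_dvd (by norm_num) (Nat.Coprime.mul_dvd_of_dvd_of_dvd (by norm_num) h2 h3) h5) h7)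
      h11) h13) h23
  have : Finite Co0 := Nat.finite_of_card_ne_zero (by rw [card_co0]; norm_num)
  refine Subgroup.eq_top_of_card_eq _ (Nat.dvd_antisymm (Subgroup.card_subgroup_dvd_card _) ?_)
  rw [card_co0]
  exact h

end CfsgLib.Spor.CoOneOut
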