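import Cfsg.Agent.Lib.Spor.CoOneOut.Words
import Cfsg.Agent.Lib.Spor.SchurCert.MatTable

/-!
The vectors fixed by the element of order eleven.
-/

set_option autoImplicit false
set_option maxRecDepth 100000
set_option maxHeartbeats 0

namespace CfsgLib.Spor.CoOneOut

open CfsgLib.Spor.Leech.Census32 CfsgLib.Spor.SchurCert CfsgLib.Spor.SchurCert.MatBridge

theorem fix_y_odd : fixOnly (table.getD 111 oneMat) fixY oddPart = true := by decide +kernel

end CfsgLib.Spor.CoOneOut
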