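import Cfsg.Agent.Lib.Spor.CoOneOut.Words
import Cfsg.Agent.Lib.Spor.SchurCert.MatTable

/-!
The enlarged table.
-/

set_option autoImplicit false
set_option maxRecDepth 100000
set_option maxHeartbeats 0

namespace CfsgLib.Spor.CoOneOut

open CfsgLib.Spor.Leech.Census32 CfsgLib.Spor.SchurCert CfsgLib.Spor.SchurCert.MatBridge

theorem table_check : (extendM ops CoTwoOut.allMats == table) = true ∧ Nat.beq CoTwoOut.allMats.length split = true := by
  decide +kernel

theorem named_check : namedOK = true ∧ formsOK = true := by decide +kernel

end CfsgLib.Spor.CoOneOut
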