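import Cfsg.Agent.Lib.Spor.CoOneOut.Table
import Cfsg.Agent.Lib.Spor.CoOneOut.CheckBad
import Cfsg.Agent.Lib.Spor.CoOneOut.CheckPairOne
import Cfsg.Agent.Lib.Spor.CoOneOut.CheckPairLast
import Cfsg.Agent.Lib.Spor.CoOneOut.CheckFixXOdd
import Cfsg.Agent.Lib.Spor.CoOneOut.CheckFixXEven
import Cfsg.Agent.Lib.Spor.CoOneOut.CheckFixYOdd
import Cfsg.Agent.Lib.Spor.CoOneOut.CheckFixYEven

/-!
The outer automorphism group of the first Conway group is trivial.

After normalising on the elements of order twenty-three and eleven, an automorphism moves the inverting involution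
and a further element centralizing the latter only inside the centralizer of that element; the other choices break
relations.
-/

set_option autoImplicit false
set_option maxRecDepth 100000

namespace CfsgLib.Spor.CoOneOut

open Cfsg MulAction CfsgLib.Spor.Leech CfsgLib.Spor.Leech.Census32 CfsgLib.Spor.SchurCert
  CfsgLib.Spor.SchurCert.MatBridge

attribute [local irreducible] chosen walk enc

theorem words_bound : CoTwoOut.xWord = [110] ∧ CoTwoOut.yWord = [111] ∧
    (∀ k ∈ CoTwoOut.tWord, 15 ≤ k ∧ k < split) ∧ (∀ w ∈ CoTwoOut.xData.zs, ∀ k ∈ w, 15 ≤ k ∧ k < split) ∧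
    (∀ w ∈ CoTwoOut.yData.zs, ∀ k ∈ w, 15 ≤ k ∧ k < split) ∧ CoTwoOut.xData.zs.length = 23 ∧
    CoTwoOut.yData.zs.length = 11 := by
  decide +kernel

theorem el_val {w : List ℕ} (hw : ∀ k ∈ w, 15 ≤ k ∧ k < split) : (CoTwoOut.el w).1 = ew w := by
  rw [ew_old fun k hk => (hw k hk).2]
  exact melt_val CoTwoOut.elts_mem fun k hk => (hw k hk).1

/-- The element of order twenty-three. -/
noncomputable abbrev X : Co0 := ew CoTwoOut.xWord
/-- The element of order eleven. -/
noncomputable abbrev Y : Co0 := ew CoTwoOut.yWord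
/-- The involution. -/
noncomputable abbrev T : Co0 := ew CoTwoOut.tWord

theorem val_XYT : CoTwoOut.X.1 = X ∧ CoTwoOut.Y.1 = Y ∧ CoTwoOut.T.1 = T := by
  obtain ⟨hx, hy, ht, -⟩ := words_bound
  exact ⟨el_val (by rw [hx]; simp [split]), el_val (by rw [hy]; simp [split]), el_val ht⟩

theorem named_powers : (∀ i < 23, ew (CoTwoOut.xData.zs.getD i []) = X ^ i) ∧
    (∀ i < 11, ew (CoTwoOut.yData.zs.getD i []) = Y ^ i) := by
  obtain ⟨-, -, -, hX, hY, hlx, hly⟩ := words_bound
  obtain ⟨-, -, -, -, -, -, hzx, hzy⟩ := CoTwoOut.el_facts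
  constructor
  · intro i hi
    rw [← el_val (by rw [List.getD_eq_getElem _ _ (hlx.symm ▸ hi)]; exact hX _ (List.getElem_mem _)), hzx i hi,
      SubmonoidClass.coe_pow, val_XYT.1]
  · intro i hi
    rw [← el_val (by rw [List.getD_eq_getElem _ _ (hly.symm ▸ hi)]; exact hY _ (List.getElem_mem _)), hzy i hi,
      SubmonoidClass.coe_pow, val_XYT.2.1]

theorem co0_facts : X ^ 23 = 1 ∧ X ≠ 1 ∧ Y * X * Y⁻¹ = X ^ 2 ∧ Y ^ 11 = 1 ∧ T * Y * T⁻¹ = Y⁻¹ ∧
    X • Spor.leechU = Spor.leechU ∧ Y • Spor.leechU = Spor.leechU := by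
  obtain ⟨hx, hx1, hyx, hy, hty, -, -, -⟩ := CoTwoOut.el_facts
  obtain ⟨eX, eY, eT⟩ := val_XYT
  refine ⟨?_, ?_, ?_, ?_, ?_, ?_, ?_⟩
  · rw [← eX, ← SubmonoidClass.coe_pow, hx]; rfl
  · rw [← eX]; exact fun e => hx1 (Subtype.ext e)
  · have e := congrArg Subtype.val hyx
    simp only [Subgroup.coe_mul, InvMemClass.coe_inv, SubmonoidClass.coe_pow, eX, eY] at e
    exact e
  · rw [← eY, ← SubmonoidClass.coe_pow, hy]; rfl
  · have e := congrArg Subtype.val hty
    simp only [Subgroup.coe_mul, InvMemClass.coe_inv, eY, eT] at e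
    exact e
  · rw [← eX]; exact CoTwoOut.X.2
  · rw [← eY]; exact CoTwoOut.Y.2

theorem smul_mem_fix {k : ℕ} {L : List ℕ} (h1 : fixOnly (table.getD k oneMat) L oddPart = true)
    (h2 : fixOnly (table.getD k oneMat) L evenPart = true) {g : Co0} (hu : ew [k] • Spor.leechU = Spor.leechU)
    (hg : g * ew [k] = ew [k] * g) : enc ((g • Spor.leechU : leechLattice) : GolayPt → ℤ) ∈ L := by
  have hn : sqNorm ((g • Spor.leechU : leechLattice) : GolayPt → ℤ) = 32 := by
    rw [co0_norm]; exact CoTwoMult.mark_code.2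
  have hmem : enc ((g • Spor.leechU : leechLattice) : GolayPt → ℤ) ∈ all32 := enc_mem_all32 (g • Spor.leechU).2 hn
  have hfix : step (table.getD k oneMat) (enc ((g • Spor.leechU : leechLattice) : GolayPt → ℤ)) =
      enc ((g • Spor.leechU : leechLattice) : GolayPt → ℤ) := by
    rw [step_enc (isMat_elts k) (by rw [hn]; norm_num), show elts.getD k 1 = ew [k] by simp [wordElt], ← mul_smul,
      ← hg, mul_smul, hu]
  have key : ∀ xs : List ℕ, fixOnly (table.getD k oneMat) L xs = true →
      enc ((g • Spor.leechU : leechLattice) : GolayPt → ℤ) ∈ xs →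
      enc ((g • Spor.leechU : leechLattice) : GolayPt → ℤ) ∈ L := by
    intro xs h hx
    simp only [fixOnly, List.all_eq_true, Bool.or_eq_true, Bool.not_eq_true', List.any_eq_true] at h
    rcases h _ hx with h | ⟨v, hv, hb⟩
    · rw [hfix, Nat.beq_refl] at h; exact Bool.noConfusion h
    · rwa [Nat.eq_of_beq_eq_true hb]
  rw [show all32 = fapp oddPart evenPart from rfl, fapp_eq, List.mem_append] at hmem
  exact hmem.elim (key _ h1) (key _ h2)

theorem walk_mark (w : List ℕ) :
    walk table CoTwoMult.markCode w = enc ((ew w • Spor.leechU : leechLattice) : GolayPt → ℤ) := by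
  rw [← CoTwoMult.mark_code.1]
  exact walk_enc isMat_elts (by rw [CoTwoMult.mark_code.2]; norm_num) w

theorem smul_eq_of_code {v w : leechLattice} (hv : sqNorm (v : GolayPt → ℤ) = 32)
    (hw : sqNorm (w : GolayPt → ℤ) = 32) (e : enc (v : GolayPt → ℤ) = enc (w : GolayPt → ℤ)) : v = w :=
  Subtype.ext (enc_inj (small_of_norm (by rw [hv]; norm_num)) (small_of_norm (by rw [hw]; norm_num)) e)

theorem cent_stab {g : Co0} (hu : g • Spor.leechU = Spor.leechU) :
    (g * X = X * g → ∃ i < 23, g = X ^ i) ∧ (g * Y = Y * g → ∃ i < 11, g = Y ^ i) := by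
  obtain ⟨eX, eY, -⟩ := val_XYT
  obtain ⟨hx, -, -, hy, -⟩ := co0_facts
  obtain ⟨-, -, -, hX, hY, hlx, hly⟩ := words_bound
  obtain ⟨-, -, -, -, -, -, hzx, hzy⟩ := CoTwoOut.el_facts
  obtain ⟨hxw, hyw, -, hxs, hys⟩ := CoTwoOut.words_le
  constructor
  · intro h
    have hm := CoTwoOut.cent_of_data CoTwoOut.xData CoTwoOut.xWord 23 hlx hxw hxs hzx CoTwoOut.x_check
      ⟨g, hu⟩ (Subtype.ext (by simp only [Subgroup.coe_mul]; rw [eX]; exact h))
    obtain ⟨m, hm⟩ := (mem_powers_iff_mem_zpowers (x := CoTwoOut.X) (y := (⟨g, hu⟩ : ↥CoTwoMult.G0))).2 hm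
    refine ⟨m % 23, Nat.mod_lt _ (by norm_num), ?_⟩
    rw [← pow_eq_pow_mod m hx, ← eX, ← SubmonoidClass.coe_pow]
    exact (congrArg Subtype.val hm).symm
  · intro h
    have hm := CoTwoOut.cent_of_data CoTwoOut.yData CoTwoOut.yWord 11 hly hyw hys hzy CoTwoOut.y_check
      ⟨g, hu⟩ (Subtype.ext (by simp only [Subgroup.coe_mul]; rw [eY]; exact h))
    obtain ⟨m, hm⟩ := (mem_powers_iff_mem_zpowers (x := CoTwoOut.Y) (y := (⟨g, hu⟩ : ↥CoTwoMult.G0))).2 hm
    refine ⟨m % 11, Nat.mod_lt _ (by norm_num), ?_⟩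
    rw [← pow_eq_pow_mod m hy, ← eY, ← SubmonoidClass.coe_pow]
    exact (congrArg Subtype.val hm).symm

theorem cent_X {g : Co0} (h : g * X = X * g) : ∃ i, proj g = proj X ^ i := by
  obtain ⟨hxw, -, -, -⟩ := words_bound
  have hu := co0_facts.2.2.2.2.2.1
  have hm := smul_mem_fix fix_x_odd fix_x_even (g := g) (by rw [← hxw]; exact hu) (by rw [← hxw]; exact h)
  rw [named_facts.2.2.2.2.2.1, List.mem_cons, List.mem_singleton, ← CoTwoMult.mark_code.1] at hm
  rcases hm with e | e
  · have hg := smul_eq_of_code (by rw [co0_norm]; exact CoTwoMult.mark_code.2) CoTwoMult.mark_code.2 e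
    obtain ⟨i, -, rfl⟩ := (cent_stab hg).1 h
    exact ⟨i, map_pow _ _ _⟩
  · rw [CoTwoMult.mark_code.1, walk_mark] at e
    have hg := smul_eq_of_code (by rw [co0_norm]; exact CoTwoMult.mark_code.2)
      (by rw [co0_norm]; exact CoTwoMult.mark_code.2) e
    have hn := Subgroup.mem_center_iff.1 (inv_mem neg_central)
    obtain ⟨i, -, hi⟩ := (cent_stab (g := (ew negWord)⁻¹ * g) (by rw [mul_smul, hg, inv_smul_smul])).1 (by
      rw [mul_assoc, h, ← mul_assoc, ← hn X, mul_assoc])
    refine ⟨i, ?_⟩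
    rw [← map_pow, ← hi, map_mul, map_inv, proj_neg, inv_one, one_mul]

theorem cent_Y {g : Co0} (h : g * Y = Y * g) : ∃ j < 12, ∃ i < 11, g = ew (centY j i) := by
  obtain ⟨-, hyw, -⟩ := words_bound
  have hu := co0_facts.2.2.2.2.2.2
  have hm := smul_mem_fix fix_y_odd fix_y_even (g := g) (by rw [← hyw]; exact hu) (by rw [← hyw]; exact h)
  obtain ⟨j, hj, e⟩ := List.getElem_of_mem hm
  obtain ⟨-, -, -, hreps, -, -, -, hlen⟩ := named_facts
  have hj' : j < 12 := hlen ▸ hj
  obtain ⟨hcomm, hwalk⟩ := hreps j hj'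
  rw [List.getD_eq_getElem _ _ hj, e, walk_mark] at hwalk
  have hg := smul_eq_of_code (by rw [co0_norm]; exact CoTwoMult.mark_code.2)
    (by rw [co0_norm]; exact CoTwoMult.mark_code.2) hwalk.symm
  set r := ew (reps.getD j [])
  have hr : r⁻¹ * Y = Y * r⁻¹ := by
    rw [inv_mul_eq_iff_eq_mul, ← mul_assoc, hcomm, mul_inv_cancel_right]
  obtain ⟨i, hi, hi'⟩ := (cent_stab (g := r⁻¹ * g) (by rw [mul_smul, hg, inv_smul_smul])).2 (by
    rw [mul_assoc, h, ← mul_assoc, hr, mul_assoc])
  exact ⟨j, hj', i, hi, by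
    rw [centY, ew_append, named_powers.2 i hi, ← hi', mul_inv_cancel_left]⟩

theorem neg_sq : ew negWord * ew negWord = 1 := by
  rcases center_cases (mul_mem neg_central neg_central) with h | h
  · exact h
  · exact absurd (mul_left_cancel (h.trans (mul_one _).symm)) named_facts.1

/-- An element of odd order commuting modulo the centre commutes. -/
theorem commute_of_proj {g c : Co0} {n : ℕ} (hn : c ^ n = 1) (hodd : n % 2 = 1)
    (h : proj g * proj c = proj c * proj g) : g * c = c * g := by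
  rw [← map_mul, ← map_mul] at h
  rcases proj_eq h with h | h
  · exact h
  · exfalso
    have e : g * c * g⁻¹ = ew negWord * c := by rw [h, mul_assoc, mul_inv_cancel_right]
    have e2 := congrArg (· ^ n) e
    simp only [conj_pow, hn, mul_one, mul_inv_cancel,
      ((show Commute (ew negWord) c from (Subgroup.mem_center_iff.1 neg_central c).symm)).mul_pow] at e2
    refine named_facts.1 ?_
    rw [← pow_one (ew negWord), ← hodd, ← pow_eq_pow_mod n (by rw [pow_two]; exact neg_sq)]
    exact e2.symm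

theorem proj_ne_one_X : proj X ≠ 1 := by
  intro e
  rcases proj_eq (b := 1) (e.trans (map_one _).symm) with h | h
  · exact co0_facts.2.1 h
  · refine named_facts.1 ?_
    have h23 := co0_facts.1
    rw [h, mul_one, show (23 : ℕ) = 2 * 11 + 1 by norm_num, pow_succ, pow_mul, pow_two, neg_sq, one_pow, one_mul] at h23
    exact h23

theorem not_nonTrivial {u : List ℕ} (h : nonTrivial u = true) : proj (ew u) ≠ 1 := by
  simp only [nonTrivial, List.any_eq_true, Bool.and_eq_true, Bool.not_eq_true'] at h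
  obtain ⟨Z, hZ, h1, h2⟩ := h
  obtain ⟨q, -, rfl⟩ := List.mem_map.1
    (show Z ∈ (List.range 24).map fun i => enc (Pi.single (idxPt i) 8) from List.mem_of_mem_take hZ)
  have hw : ∀ w, walk table (enc (eight (idxPt q) : GolayPt → ℤ)) w =
      enc ((wordElt elts w • eight (idxPt q) : leechLattice) : GolayPt → ℤ) :=
    fun w => walk_enc isMat_elts (sqNorm_eight _).le w
  rw [show enc (Pi.single (idxPt q) 8) = enc (eight (idxPt q) : GolayPt → ℤ) from rfl] at h1 h2
  intro e
  rcases proj_eq (b := 1) (e.trans (map_one _).symm) with h' | h'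
  · rw [hw, show wordElt elts u = 1 from h', one_smul] at h1
    exact Bool.noConfusion ((Nat.beq_refl _).symm.trans h1)
  · rw [hw, hw, show wordElt elts u = wordElt elts negWord from h'.trans (mul_one _)] at h2
    exact Bool.noConfusion ((Nat.beq_refl _).symm.trans h2)

theorem proj_of_sameSign {u v : List ℕ} (h : sameSign u v = true) : proj (ew u) = proj (ew v) := by
  simp only [sameSign, Bool.or_eq_true] at h
  rcases h with h | h
  · rw [same h]
  · rw [same h, ew_append, map_mul, proj_neg, one_mul]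

theorem ew_flatMap {α : Type} (f : α → List ℕ) : ∀ l : List α, ew (l.map f).flatten = (l.map fun a => ew (f a)).prod
  | [] => by simp [wordElt]
  | a :: l => by rw [List.map_cons, List.flatten_cons, ew_append, ew_flatMap f l, List.map_cons, List.prod_cons]

theorem ew_powW (w : List ℕ) : ∀ n, ew (CoTwoOut.powW w n) = ew w ^ n
  | 0 => by simp [CoTwoOut.powW, wordElt]
  | n + 1 => by
    rw [show CoTwoOut.powW w (n + 1) = w ++ CoTwoOut.powW w n by simp [CoTwoOut.powW, List.replicate_succ],
      ew_append, ew_powW w n, pow_succ']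

theorem ew_relW (s : ℕ) (U : List ℕ) (f : List ℕ × ℕ) :
    ew (CoTwoOut.relW s U f) = ((f.1.map fun a => (X ^ s) ^ a * ew U).prod) ^ f.2 := by
  rw [CoTwoOut.relW, ew_powW, ew_flatMap]
  congr 2
  refine List.map_congr_left fun a _ => ?_
  rw [ew_append, named_powers.1 _ (Nat.mod_lt _ (by norm_num)), ← pow_eq_pow_mod _ co0_facts.1, pow_mul]

/-- An automorphism of the quotient respects relations. -/
theorem rel_absurd (θ : MulAut (Co0 ⧸ Subgroup.center Co0)) {s : ℕ} (hs : θ (proj X) = proj X ^ s) {U U' : List ℕ}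
    (hU : θ (proj (ew U)) = proj (ew U')) (f : List ℕ × ℕ) (htrue : sameM table 0 (CoTwoOut.relW 1 U f) [] = true)
    (hfalse : nonTrivial (CoTwoOut.relW s U' f) = true) : False := by
  have h1 := congrArg (fun g => θ (proj g)) (same htrue)
  refine not_nonTrivial hfalse ?_
  simp only [ew_relW, ew_nil, map_one, pow_one, map_pow, map_list_prod, List.map_map] at h1 ⊢
  simp only [Function.comp_def, map_mul, map_pow, hs, hU] at h1 ⊢
  exact h1

theorem forms_true : (∀ f ∈ pairForms, sameM table 0 (CoTwoOut.relW 1 CoTwoOut.tWord f) [] = true) ∧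
    ∀ f ∈ hForms, sameM table 0 (CoTwoOut.relW 1 (front f.1 hWord) f.2) [] = true := by
  simpa only [formsOK, Bool.and_eq_true, List.all_eq_true] using named_check.2

theorem card_quot : Nat.card (Co0 ⧸ Subgroup.center Co0) = 4157776806543360000 := by
  have h := (Subgroup.center Co0).card_eq_card_quotient_mul_card_subgroup
  rw [card_co0, CoOneMult.card_center] at h
  omega

theorem out_quot : Nat.card (Out (Co0 ⧸ Subgroup.center Co0)) = 1 := by
  have : Finite (Co0 ⧸ Subgroup.center Co0) := Nat.finite_of_card_ne_zero (by rw [card_quot]; norm_num)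
  haveI : Fact (Nat.Prime 23) := ⟨by norm_num⟩
  obtain ⟨hX, -, hYX, hY, hTY, -⟩ := co0_facts
  have hfac : (Nat.card (Co0 ⧸ Subgroup.center Co0)).factorization 23 = 1 := by
    rw [card_quot, show (4157776806543360000 : ℕ) = 23 ^ 1 * 180772904632320000 by norm_num,
      Nat.factorization_mul (by norm_num) (by norm_num), Nat.factorization_pow, Finsupp.add_apply,
      Finsupp.smul_apply, Nat.Prime.factorization_self (by norm_num),
      Nat.factorization_eq_zero_of_not_dvd (by norm_num)]
    rfl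
  suffices h : ∀ φ : MulAut (Co0 ⧸ Subgroup.center Co0), φ ∈ Inn (Co0 ⧸ Subgroup.center Co0) by
    change (Inn (Co0 ⧸ Subgroup.center Co0)).index = 1
    exact Subgroup.index_eq_one.2 (eq_top_iff.2 fun φ _ => h φ)
  intro φ
  obtain ⟨c, hθX, hθY⟩ := PermCert.exists_normalised (r := 2) (proj X) (proj Y)
    (orderOf_eq_prime (by rw [← map_pow, hX, map_one]) proj_ne_one_X) hfac
    (by rw [← map_mul, ← map_inv, ← map_mul, hYX, map_pow]) (by decide) (by
      have h : ∀ k < 23, k ≠ 0 → ∃ i < 11, k * 2 ^ i % 23 = 1 ∨ k * 2 ^ i % 23 = 22 := by decide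
      intro k hk h0
      obtain ⟨i, -, hi⟩ := h k hk h0
      exact ⟨i, hi⟩) (by
      intro g hg
      obtain ⟨a, rfl⟩ := proj_surjective g
      obtain ⟨i, hi⟩ := cent_X (commute_of_proj hX (by norm_num) hg)
      exact Subgroup.mem_zpowers_iff.2 ⟨i, by rw [zpow_natCast, hi]⟩) φ
  set θ := MulAut.conj c * φ with hθ
  have hcentY : ∀ g : Co0 ⧸ Subgroup.center Co0, g * proj Y = proj Y * g →
      ∃ j < 12, ∃ i < 11, g = proj (ew (centY j i)) := by
    intro g hg
    obtain ⟨a, rfl⟩ := proj_surjective g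
    obtain ⟨j, hj, i, hi, e⟩ := cent_Y (commute_of_proj hY (by norm_num) hg)
    exact ⟨j, hj, i, hi, by rw [← e]⟩
  -- the involution is fixed
  have hTY' : proj T * proj Y * (proj T)⁻¹ = (proj Y)⁻¹ := by
    rw [← map_mul, ← map_inv, ← map_mul, hTY, map_inv]
  obtain ⟨j, hj, i, hi, hc⟩ := hcentY ((proj T)⁻¹ * θ (proj T)) (by
    have e : θ (proj T) * proj Y * (θ (proj T))⁻¹ = (proj Y)⁻¹ := by
      have := congrArg θ hTY'
      rwa [map_mul, map_mul, map_inv, map_inv, hθY] at this
    calc (proj T)⁻¹ * θ (proj T) * proj Y = (proj T)⁻¹ * (θ (proj T) * proj Y * (θ (proj T))⁻¹) * θ (proj T) := by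
          group
      _ = (proj T)⁻¹ * (proj T * proj Y * (proj T)⁻¹) * θ (proj T) := by rw [e, hTY']
      _ = proj Y * ((proj T)⁻¹ * θ (proj T)) := by group)
  have hθT0 : θ (proj T) = proj (ew (CoTwoOut.tWord ++ centY j i)) := by
    rw [ew_append, map_mul, ← hc, mul_inv_cancel_left]
  obtain ⟨s, hs, hsX⟩ : ∃ s ∈ [1, 22], θ (proj X) = proj X ^ s := by
    rcases hθX with h | h
    · exact ⟨1, by simp, by rw [h, pow_one]⟩
    · exact ⟨22, by simp, by
        rw [h, inv_eq_of_mul_eq_one_right (b := proj X ^ 22) (by rw [← pow_succ', ← map_pow, hX, map_one])]⟩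
  have hpair : s = 1 ∧ proj (ew (centY j i)) = 1 := by
    have hb : pairBad s = true := by
      simp only [List.mem_cons, List.not_mem_nil, or_false] at hs
      rcases hs with rfl | rfl
      exacts [pair_check_one, pair_check_last]
    simp only [pairBad, List.all_eq_true, List.mem_range, Bool.or_eq_true, Bool.and_eq_true, List.any_eq_true] at hb
    rcases hb j hj i hi with ⟨h1, h2⟩ | ⟨f, hf, h⟩
    · exact ⟨Nat.eq_of_beq_eq_true h1, (proj_of_sameSign h2).trans (by rw [ew_nil, map_one])⟩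
    · exact (rel_absurd θ hsX hθT0 f (forms_true.1 f hf) h).elim
  obtain ⟨rfl, hc1⟩ := hpair
  rw [pow_one] at hsX
  have hθT : θ (proj T) = proj T := by rw [hθT0, ew_append, map_mul, hc1, mul_one]
  -- the stabilizer is fixed
  have hG : ∀ g : Co0, g • Spor.leechU = Spor.leechU → θ (proj g) = proj g := fun g hg => by
    have := MonoidHom.eq_of_eqOn_dense CoTwoOut.closure_pair
      (f := θ.toMonoidHom.comp (proj.comp CoTwoMult.G0.subtype)) (g := proj.comp CoTwoMult.G0.subtype) (by
      rintro a (rfl | rfl)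
      · show θ (proj CoTwoOut.X.1) = proj CoTwoOut.X.1
        rw [val_XYT.1]; exact hsX
      · show θ (proj CoTwoOut.T.1) = proj CoTwoOut.T.1
        rw [val_XYT.2.2]; exact hθT)
    exact DFunLike.congr_fun this ⟨g, hg⟩
  -- the further generator is fixed
  obtain ⟨-, -, hbase, hreps, hh, -, hl, hlen⟩ := named_facts
  have hhY : proj (ew hWord) * proj Y = proj Y * proj (ew hWord) := by
    obtain ⟨k, hk, e⟩ := List.getElem_of_mem hh
    have := (hreps k (by omega)).1
    rw [List.getD_eq_getElem _ _ hk, e] at this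
    rw [← map_mul, this, map_mul]
  obtain ⟨j', hj', i', hi', hc'⟩ := hcentY (θ (proj (ew hWord))) (by
    have := congrArg θ hhY
    rwa [map_mul, map_mul, hθY] at this)
  have hθh : θ (proj (ew hWord)) = proj (ew hWord) := by
    have hb := further_check
    simp only [furtherBad, List.all_eq_true, List.mem_range, Bool.or_eq_true, List.any_eq_true] at hb
    rcases hb j' hj' i' hi' with h | ⟨f, hf, h⟩
    · rw [hc', proj_of_sameSign h]
    · refine (rel_absurd θ (s := 1) (U := front f.1 hWord) (U' := front f.1 (centY j' i')) (by rw [hsX, pow_one]) ?_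
        f.2 (forms_true.2 f hf) h).elim
      cases f.1 with
      | false => exact hc'
      | true => simp only [front, if_true, ew_append, map_mul, hθT, hc']
  -- everything is fixed
  have hall : ∀ g : Co0, θ (proj g) = proj g := by
    have hle := base_le (S := MonoidHom.eqLocus (θ.toMonoidHom.comp proj) proj) (fun k hk => by
      obtain ⟨e, hw⟩ := hbase k hk
      rw [e]
      refine list_prod_mem fun g hg => ?_
      obtain ⟨a, ha, rfl⟩ := List.mem_map.1 hg
      show θ (proj (elts.getD a 1)) = proj (elts.getD a 1)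
      have e1 : elts.getD a 1 = ew [a] := by simp [wordElt]
      rcases hw a ha with ⟨h1, h2⟩ | h1
      · refine hG _ ?_
        rw [e1, ← el_val (w := [a]) (by simpa using And.intro h1 h2)]
        exact (CoTwoOut.el [a]).2
      · rw [e1, ← h1]; exact hθh)
    exact fun g => hle (Subgroup.mem_top g)
  have hθ1 : θ = 1 := MulEquiv.ext fun g => by
    obtain ⟨a, rfl⟩ := proj_surjective g
    exact hall a
  refine ⟨c⁻¹, ?_⟩
  rw [map_inv, inv_eq_of_mul_eq_one_right (show MulAut.conj c * φ = 1 from hθ1)]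

theorem out_Co1 : Nat.card (Out Spor.Co1) = 1 := out_quot

end CfsgLib.Spor.CoOneOut
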