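import Cfsg.Agent.Lib.Spor.CoOneOut.CheckTable
import Cfsg.Agent.Lib.Spor.CoOneOut.BaseTop
import Cfsg.Agent.Lib.Spor.CoTwoOut.Main
import Cfsg.Agent.Lib.Spor.CoOneMult.Main

/-!
The enlarged table as automorphisms of the lattice, and the centre.
-/

set_option autoImplicit false
set_option maxRecDepth 100000

namespace CfsgLib.Spor.CoOneOut

open Cfsg MulAction CfsgLib.Spor.Leech CfsgLib.Spor.Leech.Census32 CfsgLib.Spor.SchurCert
  CfsgLib.Spor.SchurCert.MatBridge

attribute [local irreducible] chosen walk enc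

/-- The automorphisms of the table. -/
noncomputable def elts : List Co0 := extendE ops CoTwoOut.elts

theorem length_old : CoTwoOut.elts.length = split := by
  rw [CoTwoOut.elts, CoTwoOut.length_extendE, CoTwoMult.elts, CoTwoOut.length_extendE]
  rfl

theorem isMat_elts : ∀ k, IsMat (elts.getD k 1) (table.getD k oneMat) := by
  have h := isMat_extend ops CoTwoOut.elts CoTwoOut.allMats
    (length_old.trans (Nat.eq_of_beq_eq_true table_check.2).symm) CoTwoOut.isMat_elts
  rw [eq_of_beq table_check.1] at h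
  exact h

/-- The element of a word. -/
noncomputable abbrev ew (w : List ℕ) : Co0 := wordElt elts w

theorem ew_append (u v : List ℕ) : ew (u ++ v) = ew u * ew v := wordElt_append u v

theorem ew_nil : ew [] = 1 := by simp [wordElt]

theorem ew_old {w : List ℕ} (hw : ∀ k ∈ w, k < split) : ew w = wordElt CoTwoOut.elts w := by
  refine congrArg List.prod (List.map_congr_left fun k hk => ?_)
  exact CoTwoOut.getD_extendE_old ops CoTwoOut.elts k (length_old.symm ▸ hw k hk)

theorem same {u v : List ℕ} (h : sameM table 0 u v = true) : ew u = ew v := by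
  simp only [sameM, Bool.and_eq_true] at h
  exact eq_of_same isMat_elts h.2

theorem differ {u v : List ℕ} (h : differT u v = true) : ew u ≠ ew v := by
  intro e
  simp only [differT, List.any_eq_true, Bool.not_eq_true'] at h
  obtain ⟨X, hX, hne⟩ := h
  obtain ⟨q, -, rfl⟩ := List.mem_map.1 (show X ∈ (List.range 24).map fun i => enc (Pi.single (idxPt i) 8) from hX)
  have hn : sqNorm (eight (idxPt q) : GolayPt → ℤ) ≤ 64 := (sqNorm_eight _).le
  have hw : ∀ w, walk table (enc (eight (idxPt q) : GolayPt → ℤ)) w =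
      enc ((wordElt elts w • eight (idxPt q) : leechLattice) : GolayPt → ℤ) := fun w => walk_enc isMat_elts hn w
  rw [show enc (Pi.single (idxPt q) 8) = enc (eight (idxPt q) : GolayPt → ℤ) from rfl, hw, hw,
    show wordElt elts u = wordElt elts v from e] at hne
  exact Bool.noConfusion ((Nat.beq_refl _).symm.trans hne)

theorem named_facts : ew negWord ≠ 1 ∧ (∀ k < 9, ew negWord * ew [k] = ew [k] * ew negWord) ∧
    (∀ k < 9, ew [k] = ew (baseWords.getD k []) ∧
      ∀ a ∈ baseWords.getD k [], (15 ≤ a ∧ a < split) ∨ hWord = [a]) ∧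
    (∀ j < 12, ew (reps.getD j []) * ew CoTwoOut.yWord = ew CoTwoOut.yWord * ew (reps.getD j []) ∧
      walk table CoTwoMult.markCode (reps.getD j []) = fixY.getD j 0) ∧
    hWord ∈ reps ∧ fixX = [CoTwoMult.markCode, walk table CoTwoMult.markCode negWord] ∧
    reps.length = fixY.length ∧ fixY.length = 12 := by
  have h := named_check.1
  simp only [namedOK, Bool.and_eq_true, Bool.or_eq_true, List.all_eq_true, List.any_eq_true, List.mem_range,
    beq_iff_eq] at h
  obtain ⟨⟨⟨⟨⟨⟨⟨hne, hcomm⟩, hbase⟩, hl1⟩, hl2⟩, hreps⟩, hh⟩, hfix⟩ := h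
  refine ⟨fun e => differ hne (e.trans ew_nil.symm), fun k hk => ?_, fun k hk => ⟨same (hbase k hk).1, fun a ha => ?_⟩,
    fun j hj => ⟨?_, Nat.eq_of_beq_eq_true (hreps j hj).2⟩, ?_, hfix,
    Nat.eq_of_beq_eq_true hl1, Nat.eq_of_beq_eq_true hl2⟩
  · rw [← ew_append, ← ew_append]; exact same (hcomm k hk)
  · rcases (hbase k hk).2 a ha with ⟨h1, h2⟩ | h
    · exact Or.inl ⟨Nat.le_of_ble_eq_true h1, Nat.le_of_ble_eq_true h2⟩
    · exact Or.inr h
  · rw [← ew_append, ← ew_append]; exact same (hreps j hj).1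
  · obtain ⟨w, hw, rfl⟩ := hh; exact hw

theorem old_base (k : ℕ) (hk : k < 9) : ew [k] = baseElts.getD k 1 := by
  have hlen : baseElts.length = 9 := rfl
  rw [ew_old (fun a ha => by rw [List.mem_singleton.1 ha]; exact lt_trans hk (by decide)),
    show wordElt CoTwoOut.elts [k] = CoTwoOut.elts.getD k 1 by simp [wordElt], CoTwoOut.elts,
    CoTwoOut.getD_extendE_old _ _ _ (by rw [CoTwoMult.elts, CoTwoOut.length_extendE]; omega), CoTwoMult.elts,
    CoTwoOut.getD_extendE_old _ _ _ (by omega)]

theorem base_le {S : Subgroup Co0} (h : ∀ k < 9, ew [k] ∈ S) : (⊤ : Subgroup Co0) ≤ S := by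
  rw [← baseGroup_eq_top]
  refine (Subgroup.closure_le S).2 fun g hg => ?_
  obtain ⟨k, hk, rfl⟩ := List.getElem_of_mem hg
  have e := old_base k hk
  rw [List.getD_eq_getElem _ _ hk] at e
  exact e ▸ h k hk

theorem neg_central : ew negWord ∈ Subgroup.center Co0 := by
  refine Subgroup.mem_center_iff.2 fun g => ?_
  have h : g ∈ Subgroup.centralizer ({ew negWord} : Set Co0) := base_le (fun k hk => by
    rw [Subgroup.mem_centralizer_singleton_iff]
    exact (named_facts.2.1 k hk).symm) (Subgroup.mem_top g)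
  rwa [Subgroup.mem_centralizer_singleton_iff] at h

theorem center_cases {z : Co0} (hz : z ∈ Subgroup.center Co0) : z = 1 ∨ z = ew negWord := by
  obtain ⟨a, b, hab, huniv⟩ := Nat.card_eq_two_iff.1 CoOneMult.card_center
  have hm : ∀ w : ↥(Subgroup.center Co0), w = a ∨ w = b := fun w => by
    have : w ∈ ({a, b} : Set _) := huniv ▸ Set.mem_univ w
    simpa using this
  have hn : (⟨ew negWord, neg_central⟩ : ↥(Subgroup.center Co0)) ≠ 1 := fun e =>
    named_facts.1 (congrArg Subtype.val e)
  have key : (⟨z, hz⟩ : ↥(Subgroup.center Co0)) = 1 ∨ (⟨z, hz⟩ : ↥(Subgroup.center Co0)) = ⟨ew negWord, neg_central⟩ := by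
    rcases hm ⟨z, hz⟩ with h1 | h1 <;> rcases hm 1 with h2 | h2 <;>
      rcases hm ⟨ew negWord, neg_central⟩ with h3 | h3 <;>
      first
        | exact Or.inl (h1.trans h2.symm)
        | exact Or.inr (h1.trans h3.symm)
        | exact absurd (h3.trans h2.symm) hn
  rcases key with h | h
  · exact Or.inl (congrArg Subtype.val h)
  · exact Or.inr (congrArg Subtype.val h)

/-- The quotient by the centre. -/
noncomputable abbrev proj : Co0 →* Co0 ⧸ Subgroup.center Co0 := QuotientGroup.mk' (Subgroup.center Co0)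

theorem proj_surjective : Function.Surjective proj := QuotientGroup.mk'_surjective _

theorem proj_neg : proj (ew negWord) = 1 := (QuotientGroup.eq_one_iff _).2 neg_central

theorem proj_eq {a b : Co0} (h : proj a = proj b) : a = b ∨ a = ew negWord * b := by
  have hm : a * b⁻¹ ∈ Subgroup.center Co0 := by
    rw [← QuotientGroup.eq_one_iff]
    show proj (a * b⁻¹) = 1
    rw [map_mul, map_inv, h, mul_inv_cancel]
  rcases center_cases hm with h' | h'
  · exact Or.inl (mul_inv_eq_one.1 h')
  · exact Or.inr (mul_inv_eq_iff_eq_mul.1 h')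

end CfsgLib.Spor.CoOneOut
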