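import Cfsg.Agent.Lib.Spor.CoOneOut.Data
import Cfsg.Agent.Lib.Spor.Leech.Census.Data.Gens

/-!
The checks on words in the table for the first Conway group.
-/

set_option autoImplicit false

namespace CfsgLib.Spor.CoOneOut

open CfsgLib.Spor.Leech.Census32 CfsgLib.Spor.SchurCert CfsgLib.Spor.SchurCert.MatBridge

/-- The whole table. -/
def table : List Mat := CoTwoOut.allMats ++ mats

/-- The size of the table of the stabilizer. -/
def split : ℕ := 170

/-- Two words differ. -/
noncomputable def differT (u v : List ℕ) : Bool :=
  oneMat.1.any fun X => !Nat.beq (walk table X u) (walk table X v)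

/-- Two words agree up to sign. -/
noncomputable def sameSign (u v : List ℕ) : Bool := sameM table 0 u v || sameM table 0 u (negWord ++ v)

/-- A word is neither the identity nor the negation. -/
noncomputable def nonTrivial (u : List ℕ) : Bool :=
  (oneMat.1.take 3).any fun X => !Nat.beq (walk table X u) X && !Nat.beq (walk table X u) (walk table X negWord)

/-- The centralizer of the element of order eleven. -/
def centY (j i : ℕ) : List ℕ := reps.getD j [] ++ CoTwoOut.yData.zs.getD i []

/-- The word in front of a further generator. -/
def front (b : Bool) (U : List ℕ) : List ℕ := if b then CoTwoOut.tWord ++ U else U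

/-- Nothing else in a list is fixed by an entry. -/
noncomputable def fixOnly (M : Mat) (L : List ℕ) (xs : List ℕ) : Bool :=
  xs.all fun X => !Nat.beq (step M X) X || L.any (Nat.beq X)

/-- The first half of the minimal vectors. -/
noncomputable def oddPart : List ℕ := fflat (fflat oddBlock) oddTab

/-- The second half of the minimal vectors. -/
noncomputable def evenPart : List ℕ := fapp (fflat (fflat octBlock) octTab) (fflat id fourTab)

/-- The facts about the named elements. -/
noncomputable def namedOK : Bool :=
  differT negWord [] &&
    ((List.range 9).all fun k => sameM table 0 (negWord ++ [k]) ([k] ++ negWord)) &&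
    ((List.range 9).all fun k => sameM table 0 [k] (baseWords.getD k []) &&
      (baseWords.getD k []).all fun a => (Nat.ble 15 a && Nat.blt a split) || hWord == [a]) &&
    Nat.beq reps.length fixY.length && Nat.beq fixY.length 12 &&
    ((List.range 12).all fun j => sameM table 0 (reps.getD j [] ++ CoTwoOut.yWord) (CoTwoOut.yWord ++ reps.getD j []) &&
      Nat.beq (walk table CoTwoMult.markCode (reps.getD j [])) (fixY.getD j 0)) &&
    reps.any (fun w => w == hWord) &&
    fixX == [CoTwoMult.markCode, walk table CoTwoMult.markCode negWord]

/-- The relations hold. -/
noncomputable def formsOK : Bool :=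
  (pairForms.all fun f => sameM table 0 (CoTwoOut.relW 1 CoTwoOut.tWord f) []) &&
    hForms.all fun f => sameM table 0 (CoTwoOut.relW 1 (front f.1 hWord) f.2) []

/-- The other choices for the involution break a relation. -/
noncomputable def pairBad (s : ℕ) : Bool :=
  (List.range 12).all fun j => (List.range 11).all fun i =>
    (Nat.beq s 1 && sameSign (centY j i) []) ||
      pairForms.any fun f => nonTrivial (CoTwoOut.relW s (CoTwoOut.tWord ++ centY j i) f)

/-- The other choices for the further generator break a relation. -/
noncomputable def furtherBad : Bool :=
  (List.range 12).all fun j => (List.range 11).all fun i =>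
    sameSign (centY j i) hWord || hForms.any fun f => nonTrivial (CoTwoOut.relW 1 (front f.1 (centY j i)) f.2)

end CfsgLib.Spor.CoOneOut
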